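import Cfsg.Agent.Lib.CosetEnum.Fi22.UTop
import Cfsg.Agent.Lib.CosetEnum.Fi22.U0
import Cfsg.Agent.Lib.CosetEnum.Fi22.U1
import Cfsg.Agent.Lib.CosetEnum.Fi22.U2
import Cfsg.Agent.Lib.CosetEnum.Fi22.U3
import Cfsg.Agent.Lib.CosetEnum.Fi22.U4
import Cfsg.Agent.Lib.CosetEnum.Fi22.U5
import Cfsg.Agent.Lib.CosetEnum.Fi22.U6
import Cfsg.Agent.Lib.CosetEnum.Fi22.U7

set_option autoImplicit false
set_option linter.all false

namespace CfsgLib.CosetEnum.Fi22

namespace UBound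

open CfsgLib.CosetEnum

theorem bound_end : Finite (Level g []) ∧ Nat.card (Level g []) ≤ 1 :=
  ⟨(card_level_nil g).1, (card_level_nil g).2.le⟩

theorem bound7 : Finite (Level g [4]) ∧ Nat.card (Level g [4]) ≤ 2 :=
  card_le_step U7.covers bound_end (by norm_num)

theorem bound6 : Finite (Level g [4, 5]) ∧ Nat.card (Level g [4, 5]) ≤ 6 :=
  card_le_step U6.covers bound7 (by norm_num)

theorem bound5 : Finite (Level g [4, 5, 6]) ∧ Nat.card (Level g [4, 5, 6]) ≤ 24 :=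
  card_le_step U5.covers bound6 (by norm_num)

theorem bound4 : Finite (Level g [4, 5, 6, 7]) ∧ Nat.card (Level g [4, 5, 6, 7]) ≤ 48 :=
  card_le_step U4.covers bound5 (by norm_num)

theorem bound3 : Finite (Level g [3, 4, 5, 6, 7]) ∧ Nat.card (Level g [3, 4, 5, 6, 7]) ≤ 720 :=
  card_le_step U3.covers bound4 (by norm_num)

theorem bound2 : Finite (Level g [2, 3, 4, 5, 6, 7]) ∧ Nat.card (Level g [2, 3, 4, 5, 6, 7]) ≤ 23040 :=
  card_le_step U2.covers bound3 (by norm_num)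

theorem bound1 : Finite (Level g [1, 2, 3, 4, 5, 6, 7]) ∧ Nat.card (Level g [1, 2, 3, 4, 5, 6, 7]) ≤ 1451520 :=
  card_le_step U1.covers bound2 (by norm_num)

theorem bound0 : Finite (Level g [1, 2, 3, 4, 5, 6, 7, 8]) ∧ Nat.card (Level g [1, 2, 3, 4, 5, 6, 7, 8]) ≤ 4585351680 :=
  card_le_step U0.covers bound1 (by norm_num)

theorem group_bound : Finite Cfsg.Spor.Fi22 ∧ Nat.card Cfsg.Spor.Fi22 ≤ 64561751654400 := by
  obtain ⟨h1, h2⟩ := card_le_step (m := 64561751654400) UTop.covers bound0 (by norm_num)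
  exact ⟨Finite.of_equiv _ Subgroup.topEquiv.toEquiv, Subgroup.card_top (G := Cfsg.Spor.Fi22) ▸ h2⟩

end UBound

end CfsgLib.CosetEnum.Fi22
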