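import Cfsg.Agent.Lib.CosetEnum.Fi22.Base
import Cfsg.Agent.Lib.CosetEnum.Fi22.UBound
import Cfsg.Agent.Lib.CosetEnum.Simple

set_option autoImplicit false
set_option linter.all false

namespace CfsgLib.CosetEnum.Fi22

open CfsgLib.CosetEnum

theorem exact : Finite Cfsg.Spor.Fi22 ∧ Nat.card Cfsg.Spor.Fi22 = 64561751654400 ∧ Nat.card H = 18393661440 ∧ Function.Injective π ∧ CoversCosets ⊤ H 3510 :=
  exact_of_bounds π (n := 3510) (by omega) H subTable sub_spec.1 (sub_fix (by omega)) (transitive (by omega)) 18393661440 64561751654400 (by norm_num) Base.lower UBound.group_bound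

theorem finite : Finite Cfsg.Spor.Fi22 := exact.1

theorem card_group : Nat.card Cfsg.Spor.Fi22 = 64561751654400 := exact.2.1

theorem card_H : Nat.card H = 18393661440 := exact.2.2.1

theorem injective : Function.Injective π := exact.2.2.2.1

theorem covers : CoversCosets ⊤ H 3510 := exact.2.2.2.2

theorem index_H : H.index = 3510 :=
  index_eq_of_covers (n := 3510) (by omega) π H covers (sub_fix (by omega)) (transitive (by omega))

end CfsgLib.CosetEnum.Fi22
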