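import Cfsg.Agent.Lib.CosetEnum.Presented
import Cfsg.Agent.Lib.CosetEnum.Chain
import Cfsg.Prelude.Def_Spor_Fi22

set_option autoImplicit false
set_option linter.all false

namespace CfsgLib.CosetEnum.Fi22

open CfsgLib.CosetEnum

/-- Letters as words. -/
def gF : ℕ → FreeGroup Cfsg.Spor.Fi22.Gen
  | 0 => Cfsg.Spor.Fi22.a
  | 1 => Cfsg.Spor.Fi22.b
  | 2 => Cfsg.Spor.Fi22.c
  | 3 => Cfsg.Spor.Fi22.d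
  | 4 => Cfsg.Spor.Fi22.e
  | 5 => Cfsg.Spor.Fi22.f
  | 6 => Cfsg.Spor.Fi22.g
  | 7 => Cfsg.Spor.Fi22.h
  | 8 => Cfsg.Spor.Fi22.i
  | _ => 1

/-- Letter numbers. -/
def idx : Cfsg.Spor.Fi22.Gen → ℕ
  | .a => 0
  | .b => 1
  | .c => 2
  | .d => 3
  | .e => 4
  | .f => 5
  | .g => 6
  | .h => 7
  | .i => 8

/-- The nodes. -/
def nd : List Cfsg.Spor.Fi22.Gen := [.a, .b, .c, .d, .e, .f, .g, .h, .i]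

/-- The extra relator words. -/
def ew : List (List ℕ) := [[3, 2, 1, 3, 4, 5, 3, 7, 8, 3, 2, 1, 3, 4, 5, 3, 7, 8, 3, 2, 1, 3, 4, 5, 3, 7, 8, 3, 2, 1, 3, 4, 5, 3, 7, 8, 3, 2, 1, 3, 4, 5, 3, 7, 8, 3, 2, 1, 3, 4, 5, 3, 7, 8, 3, 2, 1, 3, 4, 5, 3, 7, 8, 3, 2, 1, 3, 4, 5, 3, 7, 8, 3, 2, 1, 3, 4, 5, 3, 7, 8, 3, 2, 1, 3, 4, 5, 3, 7, 8],
  [0, 1, 2, 3, 4, 5, 7, 0, 1, 2, 3, 4, 5, 7, 0, 1, 2, 3, 4, 5, 7, 0, 1, 2, 3, 4, 5, 7, 0, 1, 2, 3, 4, 5, 7, 0, 1, 2, 3, 4, 5, 7, 0, 1, 2, 3, 4, 5, 7, 0, 1, 2, 3, 4, 5, 7, 0, 1, 2, 3, 4, 5, 7],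
  [1, 2, 3, 4, 5, 6, 7, 1, 2, 3, 4, 5, 6, 7, 1, 2, 3, 4, 5, 6, 7, 1, 2, 3, 4, 5, 6, 7, 1, 2, 3, 4, 5, 6, 7, 1, 2, 3, 4, 5, 6, 7, 1, 2, 3, 4, 5, 6, 7, 1, 2, 3, 4, 5, 6, 7, 1, 2, 3, 4, 5, 6, 7]]

/-- All relator words. -/
def ls : List (List ℕ) := [[0, 0],
  [0, 1, 0, 1, 0, 1],
  [0, 2, 0, 2],
  [0, 3, 0, 3],
  [0, 4, 0, 4],
  [0, 5, 0, 5],
  [0, 6, 0, 6],
  [0, 7, 0, 7],
  [0, 8, 0, 8],
  [1, 0, 1, 0, 1, 0],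
  [1, 1],
  [1, 2, 1, 2, 1, 2],
  [1, 3, 1, 3],
  [1, 4, 1, 4],
  [1, 5, 1, 5],
  [1, 6, 1, 6],
  [1, 7, 1, 7],
  [1, 8, 1, 8],
  [2, 0, 2, 0],
  [2, 1, 2, 1, 2, 1],
  [2, 2],
  [2, 3, 2, 3, 2, 3],
  [2, 4, 2, 4],
  [2, 5, 2, 5],
  [2, 6, 2, 6],
  [2, 7, 2, 7],
  [2, 8, 2, 8],
  [3, 0, 3, 0],
  [3, 1, 3, 1],
  [3, 2, 3, 2, 3, 2],
  [3, 3],
  [3, 4, 3, 4, 3, 4],
  [3, 5, 3, 5],
  [3, 6, 3, 6],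
  [3, 7, 3, 7, 3, 7],
  [3, 8, 3, 8],
  [4, 0, 4, 0],
  [4, 1, 4, 1],
  [4, 2, 4, 2],
  [4, 3, 4, 3, 4, 3],
  [4, 4],
  [4, 5, 4, 5, 4, 5],
  [4, 6, 4, 6],
  [4, 7, 4, 7],
  [4, 8, 4, 8],
  [5, 0, 5, 0],
  [5, 1, 5, 1],
  [5, 2, 5, 2],
  [5, 3, 5, 3],
  [5, 4, 5, 4, 5, 4],
  [5, 5],
  [5, 6, 5, 6, 5, 6],
  [5, 7, 5, 7],
  [5, 8, 5, 8],
  [6, 0, 6, 0],
  [6, 1, 6, 1],
  [6, 2, 6, 2],
  [6, 3, 6, 3],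
  [6, 4, 6, 4],
  [6, 5, 6, 5, 6, 5],
  [6, 6],
  [6, 7, 6, 7],
  [6, 8, 6, 8],
  [7, 0, 7, 0],
  [7, 1, 7, 1],
  [7, 2, 7, 2],
  [7, 3, 7, 3, 7, 3],
  [7, 4, 7, 4],
  [7, 5, 7, 5],
  [7, 6, 7, 6],
  [7, 7],
  [7, 8, 7, 8, 7, 8],
  [8, 0, 8, 0],
  [8, 1, 8, 1],
  [8, 2, 8, 2],
  [8, 3, 8, 3],
  [8, 4, 8, 4],
  [8, 5, 8, 5],
  [8, 6, 8, 6],
  [8, 7, 8, 7, 8, 7],
  [8, 8],
  [3, 2, 1, 3, 4, 5, 3, 7, 8, 3, 2, 1, 3, 4, 5, 3, 7, 8, 3, 2, 1, 3, 4, 5, 3, 7, 8, 3, 2, 1, 3, 4, 5, 3, 7, 8, 3, 2, 1, 3, 4, 5, 3, 7, 8, 3, 2, 1, 3, 4, 5, 3, 7, 8, 3, 2, 1, 3, 4, 5, 3, 7, 8, 3, 2, 1, 3, 4, 5, 3, 7, 8, 3, 2, 1, 3, 4, 5, 3, 7, 8, 3, 2, 1, 3, 4, 5, 3, 7, 8],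
  [0, 1, 2, 3, 4, 5, 7, 0, 1, 2, 3, 4, 5, 7, 0, 1, 2, 3, 4, 5, 7, 0, 1, 2, 3, 4, 5, 7, 0, 1, 2, 3, 4, 5, 7, 0, 1, 2, 3, 4, 5, 7, 0, 1, 2, 3, 4, 5, 7, 0, 1, 2, 3, 4, 5, 7, 0, 1, 2, 3, 4, 5, 7],
  [1, 2, 3, 4, 5, 6, 7, 1, 2, 3, 4, 5, 6, 7, 1, 2, 3, 4, 5, 6, 7, 1, 2, 3, 4, 5, 6, 7, 1, 2, 3, 4, 5, 6, 7, 1, 2, 3, 4, 5, 6, 7, 1, 2, 3, 4, 5, 6, 7, 1, 2, 3, 4, 5, 6, 7, 1, 2, 3, 4, 5, 6, 7]]

theorem linv_eq : ∀ x < 16, linv 18364758544493064720 x = x := by decide +kernel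

theorem reads : List.Forall₂ (Reads gF 18364758544493064720) Cfsg.Spor.Fi22.extra ew := by
  unfold Cfsg.Spor.Fi22.extra ew
  refine List.Forall₂.cons ?_ (List.Forall₂.cons ?_ (List.Forall₂.cons ?_ (List.Forall₂.nil)))
  all_goals
    intro M _ φ h
    have e0 : (φ Cfsg.Spor.Fi22.a)⁻¹ = φ Cfsg.Spor.Fi22.a := by have := h 0 (by omega); rw [linv_eq 0 (by omega)] at this; exact this.symm
    have e1 : (φ Cfsg.Spor.Fi22.b)⁻¹ = φ Cfsg.Spor.Fi22.b := by have := h 1 (by omega); rw [linv_eq 1 (by omega)] at this; exact this.symm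
    have e2 : (φ Cfsg.Spor.Fi22.c)⁻¹ = φ Cfsg.Spor.Fi22.c := by have := h 2 (by omega); rw [linv_eq 2 (by omega)] at this; exact this.symm
    have e3 : (φ Cfsg.Spor.Fi22.d)⁻¹ = φ Cfsg.Spor.Fi22.d := by have := h 3 (by omega); rw [linv_eq 3 (by omega)] at this; exact this.symm
    have e4 : (φ Cfsg.Spor.Fi22.e)⁻¹ = φ Cfsg.Spor.Fi22.e := by have := h 4 (by omega); rw [linv_eq 4 (by omega)] at this; exact this.symm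
    have e5 : (φ Cfsg.Spor.Fi22.f)⁻¹ = φ Cfsg.Spor.Fi22.f := by have := h 5 (by omega); rw [linv_eq 5 (by omega)] at this; exact this.symm
    have e6 : (φ Cfsg.Spor.Fi22.g)⁻¹ = φ Cfsg.Spor.Fi22.g := by have := h 6 (by omega); rw [linv_eq 6 (by omega)] at this; exact this.symm
    have e7 : (φ Cfsg.Spor.Fi22.h)⁻¹ = φ Cfsg.Spor.Fi22.h := by have := h 7 (by omega); rw [linv_eq 7 (by omega)] at this; exact this.symm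
    have e8 : (φ Cfsg.Spor.Fi22.i)⁻¹ = φ Cfsg.Spor.Fi22.i := by have := h 8 (by omega); rw [linv_eq 8 (by omega)] at this; exact this.symm
    simp [gF, pow_succ, mul_inv_rev, mul_assoc, e0, e1, e2, e3, e4, e5, e6, e7, e8]

theorem translation : Translation gF 18364758544493064720 idx Cfsg.Spor.Fi22.edges nd Cfsg.Spor.Fi22.extra ew ls where
  hidx := by intro a; cases a <;> exact ⟨by decide, rfl⟩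
  nodes₁ := by decide
  nodes₂ := by decide
  hextra := reads
  hls := by decide +kernel
  lt16 := by decide +kernel

/-- The letters in the presented group. -/
def g : ℕ → Cfsg.Spor.Fi22 := gen gF Cfsg.Spor.Fi22.edges Cfsg.Spor.Fi22.extra

theorem g15 : g 15 = 1 := map_one _

theorem hinv : ∀ x < 16, g (linv 18364758544493064720 x) = (g x)⁻¹ := by
  intro x hx
  rw [linv_eq x hx]
  interval_cases x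
  all_goals first
    | exact (inv_of_node _ _ (by decide)).symm
    | (show (1 : Cfsg.Spor.Fi22) = 1⁻¹; exact inv_one.symm)

theorem gen_or_one : ∀ x < 16, x < 9 ∨ g x = 1 := by
  intro x hx
  interval_cases x <;> first | exact Or.inl (by omega) | exact Or.inr (map_one _)

theorem lsWords : ∀ l ∈ ls, (∀ x ∈ l, x < 16) ∧ (l.map g).prod = 1 :=
  translation.word_eq_one hinv

end CfsgLib.CosetEnum.Fi22
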