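import Cfsg.Agent.Lib.CosetEnum.Fi22.Exact
import Cfsg.Agent.Lib.CosetEnum.RigidChain

set_option autoImplicit false
set_option linter.all false

namespace CfsgLib.CosetEnum.Fi22.Rigid

open CfsgLib.CosetEnum CfsgLib.CosetEnum.Rigid

/-- Level of the first point. -/
noncomputable def lvl0 : Lvl where
  T := CfsgLib.CosetEnum.Fi22.table
  b := 0
  inOrb := fun _ => true
  path := pathTo CfsgLib.CosetEnum.Fi22.par 64

/-- Level of base point 1. -/
noncomputable def lvl1 : Lvl := lvlOf CfsgLib.CosetEnum.Fi22.subTable Base.B0.pts Base.B0.par Base.B0.pos 1 2816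

/-- Level of base point 192. -/
noncomputable def lvl2 : Lvl := lvlOf Base.B0.table Base.B1.pts Base.B1.par Base.B1.pos 192 1680

/-- Level of base point 54. -/
noncomputable def lvl3 : Lvl := lvlOf Base.B1.table Base.B2.pts Base.B2.par Base.B2.pos 54 243

/-- Level of base point 8. -/
noncomputable def lvl4 : Lvl := lvlOf Base.B2.table Base.B3.pts Base.B3.par Base.B3.pos 8 16

/-- The levels. -/
noncomputable def levels : List Lvl := [lvl0, lvl1, lvl2, lvl3, lvl4]

theorem base_eq : baseOf levels = [0, 1, 192, 54, 8] := rfl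

theorem pi_g : Acts π g CfsgLib.CosetEnum.Fi22.table := by
  intro x hx k
  have hx16 : x < 16 := lt_of_lt_of_le hx (by decide)
  have h := pi_linv_apply CfsgLib.CosetEnum.Fi22.table _ 3510 ip_ok row_ok π g hπ hx16 k
  rwa [linv_eq x hx16] at h

theorem g_inv : ∀ x < CfsgLib.CosetEnum.Fi22.table.length, (g x)⁻¹ = g x := by
  intro x hx
  have hx16 : x < 16 := lt_of_lt_of_le hx (by decide)
  have h := hinv x hx16
  rw [linv_eq x hx16] at h
  exact h.symm

theorem stab_eq : (⊤ : Subgroup Cfsg.Spor.Fi22) ⊓ fixer π 0 = CfsgLib.CosetEnum.Fi22.H :=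
  haveI : Finite Cfsg.Spor.Fi22 := finite
  fixer_zero_le (n := 3510) (by omega) _ covers (sub_fix (by omega)) (transitive (by omega))

theorem chain : Chain π ⊤ levels := by
  haveI : Finite Cfsg.Spor.Fi22 := finite
  refine ⟨realised_top π g ip_ok row_ok hπ (by decide), fun _ _ _ _ => rfl, ?_⟩
  show Chain π ((⊤ : Subgroup Cfsg.Spor.Fi22) ⊓ fixer π 0) [lvl1, lvl2, lvl3, lvl4]
  rw [stab_eq]
  have hH : Nat.card CfsgLib.CosetEnum.Fi22.H = 18393661440 := card_H
  obtain ⟨t0, c0, o0⟩ := orbit_step sub_spec.1 Base.B0.table Base.B0.ws Base.B0.pts Base.B0.par Base.B0.pos 1 2816 (by omega) (by decide +kernel)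
    Base.B0.step_ok (by decide +kernel) rfl Base.B0.comp_ok (by decide +kernel)
  obtain ⟨t1, c1, o1⟩ := orbit_step t0 Base.B1.table Base.B1.ws Base.B1.pts Base.B1.par Base.B1.pos 192 1680 (by omega) (by decide +kernel)
    Base.B1.step_ok (by decide +kernel) rfl Base.B1.comp_ok (by decide +kernel)
  obtain ⟨t2, c2, o2⟩ := orbit_step t1 Base.B2.table Base.B2.ws Base.B2.pts Base.B2.par Base.B2.pos 54 243 (by omega) (by decide +kernel)
    Base.B2.step_ok (by decide +kernel) rfl Base.B2.comp_ok (by decide +kernel)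
  obtain ⟨t3, c3, o3⟩ := orbit_step t2 Base.B3.table Base.B3.ws Base.B3.pts Base.B3.par Base.B3.pos 8 16 (by omega) (by decide +kernel)
    Base.B3.step_ok (by decide +kernel) rfl Base.B3.comp_ok (by decide +kernel)
  rw [hH] at c0 o0
  have hpos : 0 < Nat.card (((CfsgLib.CosetEnum.Fi22.H ⊓ fixer π 1) ⊓ fixer π 192 ⊓ fixer π 54) ⊓ fixer π 8 :
      Subgroup Cfsg.Spor.Fi22) := Nat.card_pos
  refine ⟨sub_spec.1, o0 (by nlinarith), t0, o1 (by nlinarith), t1, o2 (by nlinarith), t2, o3 (by nlinarith), ?_⟩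
  show ∀ z ∈ ((CfsgLib.CosetEnum.Fi22.H ⊓ fixer π 1) ⊓ fixer π 192 ⊓ fixer π 54) ⊓ fixer π 8, z = 1
  intro z hz
  rw [Subgroup.card_eq_one.1 (le_antisymm (by nlinarith) hpos), Subgroup.mem_bot] at hz
  exact hz

end CfsgLib.CosetEnum.Fi22.Rigid
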